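import Mathlib
import Cfsg.Agent.H943.E7V.Iface
import Cfsg.Agent.H484.Pos
import Cfsg.Agent.LieClassical.OrthFinite
import Cfsg.Agent.LieClassical.OrthForms
import Cfsg.Agent.LieClassical.OrthTrans

/-!
# S5935, T1: `Ω₇(3)` is not admissible (helper174)

The unipotent radical `Q = 3^5` of the stabilizer of a singular vector of the 7-space: the value `t` at the Siegel
transformation of `w` depends only on the norm of `w` (80, 90, 72 vectors). The dimension of the space fixed by `Q`
is an integer, so `t = -25` for the singular vectors; then a totally singular plane gives a contradiction.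
-/

set_option autoImplicit false

open Cfsg IsLocalRing Module QuadraticMap

namespace Cfsg.Agent.H174.E72

open Cfsg.Agent.H657 Cfsg.Agent.H943.E7V
open Cfsg.Agent.LieClassical.OrthCore Cfsg.Agent.LieClassical.OrthForms Cfsg.Agent.LieClassical.OrthFinite
open Cfsg.Agent.LieClassical.OrthTrans

/-! ### fixed points of subgroups of odd order -/

/-- the sum over a group of odd order is a multiple of the order -/
theorem fix {K : Type*} [Group K] [Fintype K] (hodd : ¬ 2 ∣ Fintype.card K) {M : Ideal AlgInt} {V : ValuationSubring ℂ}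
    (hM : IsPModular 2 M) (hV : Above M V) {n : ℕ}
    (σ : Representation (ResidueField V) K (Fin n → ResidueField V)) :
    ∃ d : ℕ, d ≤ n ∧ (d : ℂ) * Fintype.card K = ∑ g : K, bc 2 σ g := by
  obtain ⟨d, h1, h2⟩ := H484.Pos.pos hM hV σ Characters.Core.isIrr_one (fun g hg => by
    exfalso
    apply hg
    intro h
    exact hodd (h.trans (orderOf_dvd_card)))
  refine ⟨d, h1, ?_⟩
  rw [h2]
  simp

/-! ### the embedding of the 5-space -/

/-- the 5-space -/
abbrev W5 : Type := Unit ⊕ (Fin 2 ⊕ Fin 2) → ZMod 3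
/-- the 7-space -/
abbrev V7 : Type := Unit ⊕ (Fin 3 ⊕ Fin 3) → ZMod 3

/-- the form on the 5-space -/
abbrev QW : QuadraticForm (ZMod 3) W5 := oddForm 2 (ZMod 3)
/-- the form on the 7-space -/
abbrev QV : QuadraticForm (ZMod 3) V7 := oddForm 3 (ZMod 3)

/-- the embedding -/
def emb : W5 →ₗ[ZMod 3] V7 where
  toFun w := Sum.elim (fun _ => w (.inl ())) (Sum.elim (Fin.cons 0 fun i => w (.inr (.inl i)))
    (Fin.cons 0 fun i => w (.inr (.inr i))))
  map_add' a b := by
    funext i
    rcases i with i | i | i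
    · rfl
    · refine Fin.cases ?_ (fun j => ?_) i
      · simp
      · simp
    · refine Fin.cases ?_ (fun j => ?_) i
      · simp
      · simp
  map_smul' c a := by
    funext i
    rcases i with i | i | i
    · rfl
    · refine Fin.cases ?_ (fun j => ?_) i
      · simp
      · simp
    · refine Fin.cases ?_ (fun j => ?_) i
      · simp
      · simp

theorem Q_emb (w : W5) : QV (emb w) = QW w := by
  have h1 : QV (emb w) = quadFormOdd 3 (ZMod 3) (emb w) := congrFun (coe_oddForm 3 (ZMod 3)) _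
  have h2 : QW w = quadFormOdd 2 (ZMod 3) w := congrFun (coe_oddForm 2 (ZMod 3)) _
  rw [h1, h2]
  unfold quadFormOdd
  rw [Fin.sum_univ_succ]
  simp [emb]

theorem polar_emb (a b : W5) : polar QV (emb a) (emb b) = polar QW a b := by
  unfold polar
  rw [← map_add, Q_emb, Q_emb, Q_emb]

theorem emb_injective : Function.Injective emb := by
  intro a b h
  funext i
  rcases i with i | i | i
  · exact congrFun h (.inl i)
  · exact congrFun h (.inr (.inl i.succ))
  · exact congrFun h (.inr (.inr i.succ))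

/-- the singular vector -/
def u0 : V7 := Sum.elim 0 (Sum.elim (Pi.single 0 1) 0)

theorem Q_u0 : QV u0 = 0 := by
  have h1 : QV u0 = quadFormOdd 3 (ZMod 3) u0 := congrFun (coe_oddForm 3 (ZMod 3)) _
  rw [h1]
  unfold quadFormOdd
  simp [u0]

theorem polar_u0 (w : W5) : polar QV u0 (emb w) = 0 := by
  rw [polar_oddForm, Fin.sum_univ_succ]
  simp [u0, emb]

/-- Lifting `E` of the 5-space. -/
theorem lift {g : W5 ≃ₗ[ZMod 3] W5} (hg : g ∈ E QW) :
    ∃ G ∈ E QV, G u0 = u0 ∧ ∀ w, G (emb w) = emb (g w) := by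
  unfold E at hg
  induction hg using Subgroup.closure_induction with
  | mem x hx =>
    obtain ⟨a, b, ha, hab, rfl⟩ := hx
    have ha' : QV (emb a) = 0 := by rw [Q_emb, ha]
    have hab' : polar QV (emb a) (emb b) = 0 := by rw [polar_emb, hab]
    refine ⟨siegel QV (emb a) (emb b) ha' hab', siegel_mem_E ha' hab', ?_, fun w => ?_⟩
    · rw [siegel_apply, polar_comm QV (emb a), polar_comm QV (emb b), polar_u0, polar_u0]
      simp
    · rw [siegel_apply, siegel_apply, polar_emb, polar_emb, Q_emb]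
      simp only [map_sub, map_add, map_smul]
  | one => exact ⟨1, (E QV).one_mem, rfl, fun w => rfl⟩
  | mul x y _ _ hx hy =>
    obtain ⟨G, hG, h1, h2⟩ := hx
    obtain ⟨H, hH, h3, h4⟩ := hy
    refine ⟨G * H, (E QV).mul_mem hG hH, ?_, fun w => ?_⟩
    · rw [LinearEquiv.mul_apply, h3, h1]
    · rw [LinearEquiv.mul_apply, h4, h2]
      rfl
  | inv x _ hx =>
    obtain ⟨G, hG, h1, h2⟩ := hx
    refine ⟨G⁻¹, (E QV).inv_mem hG, ?_, fun w => ?_⟩
    · apply G.injective
      rw [h1]
      exact LinearEquiv.apply_symm_apply G u0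
    · apply G.injective
      rw [h2]
      have e1 : G (G⁻¹ (emb w)) = emb w := LinearEquiv.apply_symm_apply G _
      have e2 : x (x⁻¹ w) = w := LinearEquiv.apply_symm_apply x _
      rw [e1, e2]

/-! ### the group `3^5` -/

/-- the Siegel transformations -/
def sg (w : W5) : ↥(E QV) := ⟨siegel QV u0 (emb w) Q_u0 (polar_u0 w), siegel_mem_E _ _⟩

theorem sg_mul (a b : W5) : sg a * sg b = sg (a + b) := by
  apply Subtype.ext
  show siegel QV u0 (emb a) Q_u0 (polar_u0 a) * siegel QV u0 (emb b) Q_u0 (polar_u0 b) =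
    siegel QV u0 (emb (a + b)) Q_u0 (polar_u0 (a + b))
  rw [siegel_mul Q_u0 (polar_u0 a) (polar_u0 b) (by rw [← map_add]; exact polar_u0 _)]
  apply LinearEquiv.ext
  intro v
  rw [siegel_apply, siegel_apply, ← map_add emb]

theorem sg_zero : sg 0 = 1 := by
  have := sg_mul 0 0
  rw [add_zero] at this
  exact mul_eq_left.1 this

/-- the other vector of the hyperbolic pair -/
def u1 : V7 := Sum.elim 0 (Sum.elim 0 (Pi.single 0 1))

theorem polar_u01 : polar QV u0 u1 = 1 := by
  rw [polar_oddForm, Fin.sum_univ_succ]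
  simp [u0, u1]

theorem polar_u1 (w : W5) : polar QV (emb w) u1 = 0 := by
  rw [polar_oddForm, Fin.sum_univ_succ]
  simp [u1, emb]

theorem sg_injective : Function.Injective sg := by
  intro a b h
  have h1 : siegel QV u0 (emb a) Q_u0 (polar_u0 a) = siegel QV u0 (emb b) Q_u0 (polar_u0 b) := congrArg Subtype.val h
  have h2 := congrArg (fun g : V7 ≃ₗ[ZMod 3] V7 => g u1) h1
  rw [siegel_apply, siegel_apply, polar_u01, polar_u1, polar_u1] at h2
  simp only [one_smul, zero_smul, sub_zero, mul_one] at h2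
  funext i
  rcases i with i | i | i
  · have := congrFun h2 (.inl i)
    simpa [emb, u0, u1] using this
  · have := congrFun h2 (.inr (.inl i.succ))
    simpa [emb, u0, u1] using this
  · have := congrFun h2 (.inr (.inr i.succ))
    simpa [emb, u0, u1] using this

/-- `3^5` -/
def f5 : Multiplicative W5 →* ↥(E QV) where
  toFun w := sg w.toAdd
  map_one' := sg_zero
  map_mul' _ _ := (sg_mul _ _).symm

theorem good5 : Good QW := good_of_finite (nondeg_oddForm 2 (ZMod 3) (by decide)) (by
  rw [Module.finrank_fintype_fun_eq_card]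
  decide)

theorem good7 : Good QV := good_of_finite (nondeg_oddForm 3 (ZMod 3) (by decide)) (by
  rw [Module.finrank_fintype_fun_eq_card]
  decide)

/-- vectors of the same norm are conjugate -/
theorem conj_sg {a b : W5} (ha : a ≠ 0) (hb : b ≠ 0) (h : QW a = QW b) : ∃ G : ↥(E QV), G * sg a * G⁻¹ = sg b := by
  obtain ⟨g, hg, hgab⟩ := good5.trans_norm ha hb h
  obtain ⟨G, hG, h1, h2⟩ := lift hg
  refine ⟨⟨G, hG⟩, Subtype.ext ?_⟩
  show G * siegel QV u0 (emb a) Q_u0 (polar_u0 a) * G⁻¹ = siegel QV u0 (emb b) Q_u0 (polar_u0 b)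
  have e : G (emb a) = emb b := by rw [h2, hgab]
  rw [siegel_conj (E_le_O hG) Q_u0 (polar_u0 a) (by rw [h1]; exact Q_u0) (by rw [h1, e]; exact polar_u0 b)]
  ext v
  rw [siegel_apply, siegel_apply, h1, e]

theorem sg_order {w : W5} (hw : w ≠ 0) : orderOf (sg w) = 3 := by
  apply orderOf_eq_prime
  · rw [pow_succ, pow_two, sg_mul, sg_mul, ← sg_zero]
    congr 1
    funext i
    have : ∀ x : ZMod 3, x + x + x = 0 := by decide
    exact this (w i)
  · intro h
    exact hw (sg_injective (h.trans sg_zero.symm))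

/-! ### counting -/

theorem card_W : Fintype.card W5 = 243 := by
  rw [Fintype.card_fun]
  decide

theorem count (c : ZMod 3) : (Finset.univ.filter fun w : W5 => w ≠ 0 ∧ quadFormOdd 2 (ZMod 3) w = c).card =
    if c = 0 then 80 else if c = 1 then 90 else 72 := by
  revert c
  decide +kernel

/-- the sum over the 5-space -/
theorem sum_W (T : ZMod 3 → ℤ) :
    ∑ w : W5, (if w = 0 then 56 else T (QW w)) = 56 + 80 * T 0 + 90 * T 1 + 72 * T 2 := by
  have h2 : ∀ w, QW w = quadFormOdd 2 (ZMod 3) w := fun w => congrFun (coe_oddForm 2 (ZMod 3)) _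
  have e : ∀ w : W5, (if w = 0 then (56 : ℤ) else T (QW w)) = (if w = 0 then (56 : ℤ) else 0) +
      ∑ c : ZMod 3, if w ≠ 0 ∧ quadFormOdd 2 (ZMod 3) w = c then T c else 0 := by
    intro w
    by_cases hw : w = 0
    · simp [hw]
    · simp [hw, h2]
  rw [Finset.sum_congr rfl fun w _ => e w, Finset.sum_add_distrib, Finset.sum_ite_eq', if_pos (Finset.mem_univ _),
    Finset.sum_comm]
  have e2 : ∀ c : ZMod 3, ∑ w : W5, (if w ≠ 0 ∧ quadFormOdd 2 (ZMod 3) w = c then T c else 0) =
      (if c = 0 then 80 else if c = 1 then 90 else 72) * T c := by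
    intro c
    rw [← Finset.sum_filter, Finset.sum_const, count, nsmul_eq_mul]
    push_cast
    rfl
  rw [Finset.sum_congr rfl fun c _ => e2 c]
  have e3 : (Finset.univ : Finset (ZMod 3)) = {0, 1, 2} := by decide
  rw [e3, Finset.sum_insert (by decide), Finset.sum_insert (by decide), Finset.sum_singleton]
  rw [if_pos rfl, if_neg (by decide : (1 : ZMod 3) ≠ 0), if_pos rfl, if_neg (by decide : (2 : ZMod 3) ≠ 0),
    if_neg (by decide : (2 : ZMod 3) ≠ 1)]
  ring

/-- the totally singular plane -/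
def pl : Multiplicative (Fin 2 → ZMod 3) →* Multiplicative W5 where
  toFun a := Multiplicative.ofAdd (Sum.elim 0 (Sum.elim a.toAdd 0))
  map_one' := by
    apply Multiplicative.toAdd.injective
    funext i
    rcases i with i | i | i <;> rfl
  map_mul' a b := by
    apply Multiplicative.toAdd.injective
    funext i
    rcases i with i | i | i
    · exact (add_zero (0 : ZMod 3)).symm
    · rfl
    · exact (add_zero (0 : ZMod 3)).symm

theorem vals {t0 t1 t2 : ℤ} {d e : ℕ} (h0 : t0 = 2 ∨ t0 = 20 ∨ t0 = -7 ∨ t0 = -25)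
    (h1 : t1 = 2 ∨ t1 = 20 ∨ t1 = -7 ∨ t1 = -25) (h2 : t2 = 2 ∨ t2 = 20 ∨ t2 = -7 ∨ t2 = -25)
    (hd : (d : ℤ) * 243 = 56 + 80 * t0 + 90 * t1 + 72 * t2) (he : (e : ℤ) * 9 = 56 + 8 * t0) : False := by
  rcases h0 with rfl | rfl | rfl | rfl <;> rcases h1 with rfl | rfl | rfl | rfl <;>
    rcases h2 with rfl | rfl | rfl | rfl <;> omega

theorem not_E : ¬ Adm ↥(E QV) := by
  rintro ⟨M, V, hM, hV, σ, H⟩
  have hz : ∀ x : ZMod 3, x = 0 ∨ x = 1 ∨ x = 2 := by decide
  -- the values
  have hT : ∀ c : ZMod 3, ∃ t : ℤ, (t = 2 ∨ t = 20 ∨ t = -7 ∨ t = -25) ∧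
      ∀ w : W5, w ≠ 0 → QW w = c → bc 2 σ (sg w) = t := by
    intro c
    by_cases hc : ∃ w : W5, w ≠ 0 ∧ QW w = c
    · obtain ⟨w, hw, hwc⟩ := hc
      have h3 : ∃ t : ℤ, (t = 2 ∨ t = 20 ∨ t = -7 ∨ t = -25) ∧ bc 2 σ (sg w) = t := by
        rcases H.three (sg w) (sg_order hw) with h | h | h | h
        · exact ⟨2, by simp, by rw [h]; norm_num⟩
        · exact ⟨20, by simp, by rw [h]; norm_num⟩
        · exact ⟨-7, by simp, by rw [h]; norm_num⟩
        · exact ⟨-25, by simp, by rw [h]; norm_num⟩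
      obtain ⟨t, ht, htw⟩ := h3
      refine ⟨t, ht, fun w' hw' hwc' => ?_⟩
      obtain ⟨G, hG⟩ := conj_sg hw hw' (hwc.trans hwc'.symm)
      rw [← hG, bc_conj, htw]
    · exact ⟨2, by simp, fun w hw hwc => absurd ⟨w, hw, hwc⟩ hc⟩
  choose T hT1 hT2 using hT
  have hval : ∀ w : W5, bc 2 σ (sg w) = ((if w = 0 then 56 else T (QW w) : ℤ) : ℂ) := by
    intro w
    by_cases hw : w = 0
    · rw [if_pos hw, hw, sg_zero, H.one]
      norm_num
    · rw [if_neg hw]
      exact hT2 _ w hw rfl
  -- fixed points of `3^5`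
  have hc5 : Fintype.card (Multiplicative W5) = 243 := (Fintype.card_multiplicative W5).trans card_W
  obtain ⟨d, -, hd⟩ := fix (K := Multiplicative W5) (by rw [hc5]; norm_num) hM hV (σ.comp f5)
  have hd' : (d : ℤ) * 243 = 56 + 80 * T 0 + 90 * T 1 + 72 * T 2 := by
    rw [← sum_W T]
    have e : ∑ g : Multiplicative W5, bc 2 (σ.comp f5) g = ((∑ w : W5, (if w = 0 then 56 else T (QW w)) : ℤ) : ℂ) := by
      rw [Int.cast_sum]
      exact Fintype.sum_equiv Multiplicative.toAdd _ _ fun g => hval g.toAdd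
    rw [hc5, e] at hd
    exact_mod_cast hd
  -- fixed points of the plane
  have hc2 : Fintype.card (Multiplicative (Fin 2 → ZMod 3)) = 9 := by
    rw [Fintype.card_multiplicative, Fintype.card_fun]
    decide
  obtain ⟨e, -, he⟩ := fix (K := Multiplicative (Fin 2 → ZMod 3)) (by rw [hc2]; norm_num) hM hV ((σ.comp f5).comp pl)
  have he' : (e : ℤ) * 9 = 56 + 8 * T 0 := by
    have h1 : ∀ a : Fin 2 → ZMod 3, bc 2 ((σ.comp f5).comp pl) (Multiplicative.ofAdd a) =
        ((if a = 0 then 56 else T 0 : ℤ) : ℂ) := by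
      intro a
      have h2 : bc 2 ((σ.comp f5).comp pl) (Multiplicative.ofAdd a) = bc 2 σ (sg (Sum.elim 0 (Sum.elim a 0))) := rfl
      rw [h2, hval]
      have h3 : (Sum.elim 0 (Sum.elim a 0) : W5) = 0 ↔ a = 0 := by
        constructor
        · intro h
          funext i
          exact congrFun h (.inr (.inl i))
        · rintro rfl
          funext i
          rcases i with i | i | i <;> rfl
      have h4 : QW (Sum.elim 0 (Sum.elim a 0) : W5) = 0 := by
        have h5 : QW (Sum.elim 0 (Sum.elim a 0) : W5) = quadFormOdd 2 (ZMod 3) (Sum.elim 0 (Sum.elim a 0)) :=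
          congrFun (coe_oddForm 2 (ZMod 3)) _
        rw [h5]
        unfold quadFormOdd
        simp
      rw [h4]
      simp only [h3]
    have e2 : ∑ g : Multiplicative (Fin 2 → ZMod 3), bc 2 ((σ.comp f5).comp pl) g =
        ((∑ a : Fin 2 → ZMod 3, (if a = 0 then 56 else T 0) : ℤ) : ℂ) := by
      rw [Int.cast_sum]
      exact Fintype.sum_equiv Multiplicative.toAdd _ _ fun g => h1 g.toAdd
    have e3 : (∑ a : Fin 2 → ZMod 3, (if a = 0 then 56 else T 0) : ℤ) = 56 + 8 * T 0 := by
      have e4 : ∀ a : Fin 2 → ZMod 3, (if a = 0 then 56 else T 0 : ℤ) = (if a = 0 then 56 - T 0 else 0) + T 0 := by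
        intro a
        split_ifs <;> ring
      rw [Finset.sum_congr rfl fun a _ => e4 a, Finset.sum_add_distrib, Finset.sum_ite_eq', if_pos (Finset.mem_univ _),
        Finset.sum_const, Finset.card_univ, show Fintype.card (Fin 2 → ZMod 3) = 9 by rw [Fintype.card_fun]; decide]
      simp
      ring
    rw [hc2, e2, e3] at he
    exact_mod_cast he
  exact vals (hT1 0) (hT1 1) (hT1 2) hd' he'

/-- **`Ω₇(3)` is not admissible.** -/
theorem not_omega7 : ¬ Adm ↥(Cfsg.Omega (ZMod 3) (Cfsg.quadFormOdd 3 (ZMod 3))) := by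
  intro h
  have h' : Adm ↥(Cfsg.Omega (ZMod 3) ⇑QV) := by
    have e : ⇑QV = Cfsg.quadFormOdd 3 (ZMod 3) := coe_oddForm 3 (ZMod 3)
    rw [e]
    exact h
  let e : ↥(E QV) ≃* ↥(Cfsg.Omega (ZMod 3) ⇑QV) :=
    ((omegaEquiv QV).trans (MulEquiv.subgroupCongr good7.commutator_eq_E)).symm
  exact not_E (h'.comap e.toMonoidHom e.injective)

end Cfsg.Agent.H174.E72
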